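/-
M-groups: products and regular wreath products with a group of prime order on top (Dade).

* `IsMonomial`, `isMonomial_pi`, `isMonomial_wreath`
* `exists_embedding_wreath`: an extension of `N` by `Q` embeds in `N ≀ᵣ Q`
-/
import Cfsg.Agent.Lib.CharApp.Clifford
import Cfsg.Agent.Lib.CentralChar.Twist
import Cfsg.Agent.Lib.Char.Monomial
import Mathlib.GroupTheory.RegularWreathProduct

set_option autoImplicit false

namespace Cfsg.Agent.MGroup

open Cfsg
open scoped ComplexConjugate

/-- Every irreducible character is induced from a linear character of a subgroup. -/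
def IsMonomial (G : Type*) [Group G] [Fintype G] : Prop :=
  ∀ χ : G → ℂ, IsIrrCharacter G χ →
    ∃ (H : Subgroup G) (lam : H →* ℂˣ), χ = Cfsg.indFun H (fun h => (lam h : ℂ))

section Pi

variable {ι : Type*} [Fintype ι] {D : Type*} [Group D]

theorem isCharacter_prod (ψ : ι → D → ℂ) (hψ : ∀ i, IsCharacter D (ψ i)) (s : Finset ι) :
    IsCharacter (ι → D) (fun x => ∏ i ∈ s, ψ i (x i)) := by
  classical
  induction s using Finset.induction with
  | empty =>
    simp only [Finset.prod_empty]
    exact Char.IsIrrCharacter.isCharacter Char.isIrrCharacter_one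
  | insert a t ha ih =>
    have h := Char.IsCharacter.mul
      (Char.IsCharacter.comp_hom (hψ a) (Pi.evalMonoidHom (fun _ : ι => D) a)) ih
    simp only [Finset.prod_insert ha]
    exact h

variable [Fintype D] [DecidableEq ι]

theorem classInner_pi (ψ φ : ι → D → ℂ) :
    classInner (G := ι → D) (fun x => ∏ i, ψ i (x i)) (fun x => ∏ i, φ i (x i)) =
      ∏ i, classInner (ψ i) (φ i) := by
  simp only [classInner, map_prod, ← Finset.prod_mul_distrib]
  rw [← Fintype.prod_sum (fun i y => ψ i y * conj (φ i y)), Finset.prod_mul_distrib, Finset.prod_const,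
    Finset.card_univ, Nat.card_fun, Nat.card_eq_fintype_card (α := ι), Nat.cast_pow, inv_pow]

theorem isIrrCharacter_pi (ψ : ι → IrrCharacter D) :
    IsIrrCharacter (ι → D) (fun x => ∏ i, (ψ i : D → ℂ) (x i)) := by
  rw [Char.isIrrCharacter_iff_norm_one
      (isCharacter_prod _ (fun i => Char.IsIrrCharacter.isCharacter (ψ i).2) _), classInner_pi]
  exact Finset.prod_eq_one fun i _ => Char.classInner_irr_self (ψ i).2

theorem pi_injective {ψ φ : ι → IrrCharacter D}
    (h : (fun x : ι → D => ∏ i, (ψ i : D → ℂ) (x i)) = fun x => ∏ i, (φ i : D → ℂ) (x i)) : ψ = φ := by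
  have h1 := Char.classInner_irr_self (isIrrCharacter_pi ψ)
  nth_rw 2 [h] at h1
  rw [classInner_pi] at h1
  funext i
  by_contra hne
  rw [Finset.prod_eq_zero (Finset.mem_univ i)
    (Char.classInner_irr_of_ne (ψ i).2 (φ i).2 fun e => hne (Subtype.ext e))] at h1
  exact zero_ne_one h1

theorem exists_pi_eq {θ : (ι → D) → ℂ} (hθ : IsIrrCharacter (ι → D) θ) :
    ∃ ψ : ι → IrrCharacter D, θ = fun x => ∏ i, (ψ i : D → ℂ) (x i) := by
  classical
  by_contra hno
  push Not at hno
  haveI := Fintype.ofFinite (IrrCharacter D)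
  haveI := Fintype.ofFinite (IrrCharacter (ι → D))
  let F : (ι → IrrCharacter D) → IrrCharacter (ι → D) := fun ψ => ⟨_, isIrrCharacter_pi ψ⟩
  have hF : Function.Injective F := fun ψ φ h => pi_injective (congrArg Subtype.val h)
  have hnot : (⟨θ, hθ⟩ : IrrCharacter (ι → D)) ∉ Finset.univ.image F := by
    rw [Finset.mem_image]
    rintro ⟨ψ, _, hψ⟩
    exact hno ψ (congrArg Subtype.val hψ).symm
  have htot := Char.sum_sq_degrees (G := ι → D)
  rw [← Finset.sum_sdiff (Finset.subset_univ (Finset.univ.image F)),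
    Finset.sum_image fun x _ y _ e => hF e] at htot
  have himg : ∑ ψ : ι → IrrCharacter D, (F ψ : (ι → D) → ℂ) 1 ^ 2 = (Nat.card (ι → D) : ℂ) := by
    simp only [F, Pi.one_apply, ← Finset.prod_pow]
    rw [← Fintype.prod_sum (fun (_ : ι) (χ : IrrCharacter D) => (χ : D → ℂ) 1 ^ 2),
      Nat.card_fun, Nat.cast_pow, Char.sum_sq_degrees, Finset.prod_const, Finset.card_univ,
      Nat.card_eq_fintype_card (α := ι)]
  rw [himg, add_eq_right] at htot
  choose d hd hd' using fun χ : IrrCharacter (ι → D) => Char.IsIrrCharacter.exists_degree χ.2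
  have hz : ∑ χ ∈ Finset.univ \ Finset.univ.image F, d χ ^ 2 = 0 := by
    simp only [hd'] at htot
    exact_mod_cast htot
  have := (Finset.sum_eq_zero_iff.1 hz) _ (Finset.mem_sdiff.2 ⟨Finset.mem_univ _, hnot⟩)
  exact (pow_pos (hd ⟨θ, hθ⟩) 2).ne' this

/-- The product of subgroups. -/
def piSub (K : ι → Subgroup D) : Subgroup (ι → D) := Subgroup.pi Set.univ K

/-- The product of linear characters. -/
def piHom (K : ι → Subgroup D) (lam : ∀ i, K i →* ℂˣ) : piSub K →* ℂˣ :=
  MonoidHom.mk' (fun x => ∏ i, lam i ⟨(x : ι → D) i, x.2 i (Set.mem_univ i)⟩)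
    (fun x y => by
      rw [← Finset.prod_mul_distrib]
      exact Finset.prod_congr rfl fun i _ => by rw [← map_mul]; rfl)

omit [Fintype D] [DecidableEq ι] in
theorem prod_extendByZero (K : ι → Subgroup D) (lam : ∀ i, K i →* ℂˣ) (u : ι → D) :
    extendByZero (piSub K) (fun x => (piHom K lam x : ℂ)) u =
      ∏ i, extendByZero (K i) (fun y => (lam i y : ℂ)) (u i) := by
  by_cases hu : u ∈ piSub K
  · rw [Char.extendByZero_mem _ _ hu]
    simp only [piHom, MonoidHom.mk'_apply, Units.coe_prod]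
    exact Finset.prod_congr rfl fun i _ =>
      (Char.extendByZero_mem (K i) (fun y => (lam i y : ℂ)) (hu i (Set.mem_univ i))).symm
  · rw [Char.extendByZero_not_mem _ _ hu]
    obtain ⟨i, hi⟩ : ∃ i, u i ∉ K i := by
      by_contra hh
      push Not at hh
      exact hu fun i _ => hh i
    exact (Finset.prod_eq_zero (Finset.mem_univ i)
      (Char.extendByZero_not_mem (K i) (fun y => (lam i y : ℂ)) hi)).symm

omit [DecidableEq ι] [Fintype D] in
theorem card_piSub (K : ι → Subgroup D) :
    Nat.card (piSub K) = ∏ i, Nat.card (K i) := by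
  rw [← Nat.card_pi]
  exact Nat.card_congr
    { toFun := fun x i => ⟨(x : ι → D) i, x.2 i (Set.mem_univ i)⟩
      invFun := fun x => ⟨fun i => x i, fun i _ => (x i).2⟩
      left_inv := fun _ => rfl
      right_inv := fun _ => rfl }

/-- Induction commutes with products. -/
theorem indFun_pi (K : ι → Subgroup D) (lam : ∀ i, K i →* ℂˣ) (g : ι → D) :
    indFun (piSub K) (fun x => (piHom K lam x : ℂ)) g =
      ∏ i, indFun (K i) (fun y => (lam i y : ℂ)) (g i) := by
  simp only [indFun, prod_extendByZero, Pi.mul_apply, Pi.inv_apply]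
  rw [← Fintype.prod_sum (fun i y => extendByZero (K i) (fun y => (lam i y : ℂ)) (y⁻¹ * g i * y)),
    Finset.prod_mul_distrib, card_piSub, Nat.cast_prod, Finset.prod_inv_distrib]

/-- Products of M-groups are M-groups. -/
theorem isMonomial_pi (hD : IsMonomial D) : IsMonomial (ι → D) := by
  intro θ hθ
  obtain ⟨ψ, rfl⟩ := exists_pi_eq hθ
  choose K lam hK using fun i => hD _ (ψ i).2
  refine ⟨piSub K, piHom K lam, funext fun g => ?_⟩
  rw [indFun_pi]
  exact Finset.prod_congr rfl fun i _ => congrFun (hK i) (g i)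

end Pi

section Transport

variable {G H : Type*} [Group G] [Group H] [Fintype G] [Fintype H]

/-- Monomiality is invariant under isomorphism. -/
theorem IsMonomial.of_equiv (e : G ≃* H) (hG : IsMonomial G) : IsMonomial H := by
  intro χ hχ
  obtain ⟨K, lam, hK⟩ := hG _ (Char.IsIrrCharacter.comp_equiv hχ e)
  refine ⟨K.map e.toMonoidHom,
    lam.comp (K.equivMapOfInjective e.toMonoidHom e.injective).symm.toMonoidHom, funext fun h => ?_⟩
  obtain ⟨g, rfl⟩ := e.surjective h
  rw [show χ (e g) = indFun K (fun x => (lam x : ℂ)) g from congrFun hK g, indFun, indFun,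
    ← Nat.card_congr (K.equivMapOfInjective e.toMonoidHom e.injective).toEquiv]
  congr 1
  refine Fintype.sum_equiv e.toEquiv _ _ fun x => ?_
  have e1 : (e.toEquiv x)⁻¹ * e g * e.toEquiv x = e (x⁻¹ * g * x) := by simp
  rw [e1]
  by_cases hx : x⁻¹ * g * x ∈ K
  · rw [Char.extendByZero_mem _ _ hx,
      Char.extendByZero_mem _ _ (show e (x⁻¹ * g * x) ∈ K.map e.toMonoidHom from ⟨_, hx, rfl⟩)]
    simp only [MonoidHom.comp_apply]
    congr 2
    refine ((K.equivMapOfInjective e.toMonoidHom e.injective).symm_apply_eq.mpr (Subtype.ext ?_)).symm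
    rfl
  · rw [Char.extendByZero_not_mem _ _ hx, Char.extendByZero_not_mem]
    rintro ⟨y, hy, hye⟩
    exact hx (e.injective hye ▸ hy)

end Transport

section Wreath

variable {D Q : Type*} [Group D] [Group Q]

/-- The base group of `D ≀ᵣ Q`. -/
def base (D Q : Type*) [Group D] [Group Q] : Subgroup (D ≀ᵣ Q) := RegularWreathProduct.rightHom.ker

instance : (base D Q).Normal := MonoidHom.normal_ker _

/-- The base group is a product of copies of `D`. -/
def baseEquiv : (Q → D) ≃* base D Q where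
  toFun f := ⟨⟨f, 1⟩, rfl⟩
  invFun b := (b : D ≀ᵣ Q).left
  left_inv _ := rfl
  right_inv b := Subtype.ext (RegularWreathProduct.ext rfl b.2.symm)
  map_mul' f f' := Subtype.ext (RegularWreathProduct.ext (by funext x; simp) (by simp))

theorem conj_baseEquiv (w : D ≀ᵣ Q) (f : Q → D) :
    w⁻¹ * (baseEquiv f : D ≀ᵣ Q) * w =
      (baseEquiv (fun x => (w.left (w.right * x))⁻¹ * f (w.right * x) * w.left (w.right * x)) :
        D ≀ᵣ Q) :=
  RegularWreathProduct.ext (by funext x; simp [baseEquiv, mul_assoc]) (by simp [baseEquiv])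

variable [Fintype D] [Fintype Q]

noncomputable instance : Fintype (D ≀ᵣ Q) := Fintype.ofFinite _

theorem conjFun_pi (ψ : Q → IrrCharacter D) (η : base D Q → ℂ)
    (hη : ∀ f, η (baseEquiv f) = ∏ x, (ψ x : D → ℂ) (f x)) (w : D ≀ᵣ Q) (f : Q → D) :
    CliffordChar.conjFun (base D Q) w η (baseEquiv f) = ∏ x, (ψ (w.right⁻¹ * x) : D → ℂ) (f x) := by
  rw [CliffordChar.conjFun_apply]
  refine (congrArg η (Subtype.ext (conj_baseEquiv w f))).trans ((hη _).trans ?_)
  refine Fintype.prod_equiv (Equiv.mulLeft w.right) _ _ fun x => ?_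
  rw [Equiv.coe_mulLeft, inv_mul_cancel_left]
  have h := Char.IsIrrCharacter.isClassFunction (ψ x).2 (f (w.right * x)) (w.left (w.right * x))⁻¹
  rwa [inv_inv] at h

/-- Functions valued in `K`, with any top component. -/
def wreathSub (Q : Type*) [Group Q] (K : Subgroup D) : Subgroup (D ≀ᵣ Q) where
  carrier := {w | ∀ x, w.left x ∈ K}
  one_mem' _ := K.one_mem
  mul_mem' {a b} ha hb x := by
    rw [RegularWreathProduct.mul_left, Pi.mul_apply]
    exact K.mul_mem (ha x) (hb _)
  inv_mem' {a} ha x := by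
    rw [RegularWreathProduct.inv_left]
    exact K.inv_mem (ha _)

/-- The product of the values of `lam` on the coordinates. -/
def wreathHom {K : Subgroup D} (lam : K →* ℂˣ) : wreathSub Q K →* ℂˣ :=
  MonoidHom.mk' (fun w => ∏ x, lam ⟨(w : D ≀ᵣ Q).left x, w.2 x⟩) fun a b => by
    calc (∏ x, lam ⟨((a * b : wreathSub Q K) : D ≀ᵣ Q).left x, (a * b).2 x⟩)
        = ∏ x, (lam ⟨(a : D ≀ᵣ Q).left x, a.2 x⟩ *
            lam ⟨(b : D ≀ᵣ Q).left ((a : D ≀ᵣ Q).right⁻¹ * x), b.2 _⟩) :=
          Finset.prod_congr rfl fun x _ => by rw [← map_mul]; rfl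
      _ = _ := by
          rw [Finset.prod_mul_distrib]
          congr 1
          exact Fintype.prod_equiv (Equiv.mulLeft (a : D ≀ᵣ Q).right⁻¹) _ _ fun x => rfl

theorem card_wreathSub (K : Subgroup D) :
    Nat.card (wreathSub Q K) = Nat.card K ^ Nat.card Q * Nat.card Q := by
  rw [← Nat.card_fun, ← Nat.card_prod]
  exact Nat.card_congr
    { toFun := fun w => (fun x => ⟨(w : D ≀ᵣ Q).left x, w.2 x⟩, (w : D ≀ᵣ Q).right)
      invFun := fun q => ⟨⟨fun x => q.1 x, q.2⟩, fun x => (q.1 x).2⟩
      left_inv := fun _ => rfl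
      right_inv := fun _ => rfl }

theorem indFun_wreath [DecidableEq Q] {K : Subgroup D} (lam : K →* ℂˣ) (f : Q → D) :
    indFun (wreathSub Q K) (fun w => (wreathHom lam w : ℂ)) (baseEquiv f : D ≀ᵣ Q) =
      ∏ x, indFun K (fun y => (lam y : ℂ)) (f x) := by
  have hext : ∀ u : Q → D, extendByZero (wreathSub Q K) (fun w => (wreathHom lam w : ℂ))
      (baseEquiv u : D ≀ᵣ Q) = ∏ x, extendByZero K (fun y => (lam y : ℂ)) (u x) := by
    intro u
    by_cases hu : (baseEquiv u : D ≀ᵣ Q) ∈ wreathSub Q K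
    · rw [Char.extendByZero_mem _ _ hu]
      simp only [wreathHom, MonoidHom.mk'_apply, Units.coe_prod]
      exact Finset.prod_congr rfl fun x _ =>
        (Char.extendByZero_mem K (fun y => (lam y : ℂ)) (hu x)).symm
    · rw [Char.extendByZero_not_mem _ _ hu]
      obtain ⟨x, hx⟩ : ∃ x, u x ∉ K := by
        by_contra hh
        push Not at hh
        exact hu hh
      exact (Finset.prod_eq_zero (Finset.mem_univ x)
        (Char.extendByZero_not_mem K (fun y => (lam y : ℂ)) hx)).symm
  have hsum : ∑ w : D ≀ᵣ Q, extendByZero (wreathSub Q K) (fun w => (wreathHom lam w : ℂ))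
      (w⁻¹ * (baseEquiv f : D ≀ᵣ Q) * w) =
      (Nat.card Q : ℂ) * ∏ x, ∑ a : D, extendByZero K (fun y => (lam y : ℂ)) (a⁻¹ * f x * a) := by
    rw [Fintype.sum_equiv (RegularWreathProduct.equivProd D Q) _
      (fun q => ∏ x, extendByZero K (fun y => (lam y : ℂ)) ((q.1 x)⁻¹ * f x * q.1 x)) fun w => ?_,
      Fintype.sum_prod_type_right]
    simp only [Finset.sum_const]
    rw [Finset.card_univ, nsmul_eq_mul,
      ← Nat.card_eq_fintype_card, Fintype.prod_sum]
    rw [conj_baseEquiv, hext]
    exact Fintype.prod_equiv (Equiv.mulLeft w.right) _ _ fun x => rfl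
  rw [indFun, hsum, card_wreathSub]
  simp only [indFun, Finset.prod_mul_distrib, Finset.prod_const, Finset.card_univ, inv_pow,
    Nat.card_eq_fintype_card, Nat.cast_mul, Nat.cast_pow, mul_inv]
  have : (Fintype.card Q : ℂ) ≠ 0 := Nat.cast_ne_zero.mpr Fintype.card_ne_zero
  field_simp

/-- A character with irreducible restriction is irreducible. -/
theorem isIrr_of_restrict {G : Type*} [Group G] [Fintype G] (N : Subgroup G) [Fintype N] {θ : G → ℂ}
    (hθ : IsCharacter G θ) (hres : IsIrrCharacter N (fun n : N => θ n)) : IsIrrCharacter G θ := by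
  classical
  haveI := Fintype.ofFinite (IrrCharacter G)
  haveI := Fintype.ofFinite (IrrCharacter N)
  obtain ⟨m, hm, hm'⟩ := Char.IsCharacter.decompose hθ
  choose e he he' using fun ξ : IrrCharacter G => Char.IsIrrCharacter.exists_degree ξ.2
  obtain ⟨d, hd, hd'⟩ := Char.IsIrrCharacter.exists_degree hres
  have hsum : d = ∑ ξ, m ξ * e ξ := by
    have h1 := congrFun hm 1
    simp only [Finset.sum_apply, Pi.smul_apply, smul_eq_mul, he'] at h1
    rw [show θ 1 = (d : ℂ) from hd'] at h1
    exact_mod_cast h1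
  obtain ⟨ξ, hξ⟩ : ∃ ξ : IrrCharacter G, m ξ ≠ 0 ∧
      classInner (fun n : N => (ξ : G → ℂ) n) (fun n : N => θ n) ≠ 0 := by
    by_contra hh
    push Not at hh
    have h1 := Char.classInner_irr_self hres
    rw [show classInner (fun n : N => θ n) (fun n : N => θ n) = classInner
        (∑ ξ : IrrCharacter G, (m ξ : ℂ) • fun n : N => (ξ : G → ℂ) n) (fun n : N => θ n) from ?_,
      Char.classInner_sum_left, Finset.sum_eq_zero] at h1
    · exact zero_ne_one h1
    · intro ξ _
      rw [Char.classInner_smul_left]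
      rcases eq_or_ne (m ξ) 0 with h2 | h2
      · rw [h2, Nat.cast_zero, zero_mul]
      · rw [hh ξ h2, mul_zero]
    · congr 1
      funext n
      have := congrFun hm (n : G)
      simp only [Finset.sum_apply, Pi.smul_apply] at this ⊢
      exact this
  obtain ⟨k, hk, hk'⟩ := Char.IsCharacter.decompose
    (Char.IsCharacter.restrict (Char.IsIrrCharacter.isCharacter ξ.2) N)
  have hge : d ≤ e ξ := by
    choose f _ hf' using fun φ : IrrCharacter N => Char.IsIrrCharacter.exists_degree φ.2
    have h1 := congrFun hk 1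
    simp only [Finset.sum_apply, Pi.smul_apply, smul_eq_mul, hf', OneMemClass.coe_one, he'] at h1
    have h1' : e ξ = ∑ φ, k φ * f φ := by exact_mod_cast h1
    have hfd : f ⟨_, hres⟩ = d := by exact_mod_cast (hf' ⟨_, hres⟩).symm.trans hd'
    have hk0 : k ⟨_, hres⟩ ≠ 0 := fun h => hξ.2 ((hk' ⟨_, hres⟩).trans (by rw [h, Nat.cast_zero]))
    calc d = f ⟨_, hres⟩ := hfd.symm
      _ ≤ k ⟨_, hres⟩ * f ⟨_, hres⟩ := Nat.le_mul_of_pos_left _ (Nat.pos_of_ne_zero hk0)
      _ ≤ _ := (Finset.single_le_sum (f := fun φ => k φ * f φ) (fun _ _ => Nat.zero_le _)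
          (Finset.mem_univ _)).trans h1'.ge
  have hm1 : ∀ φ : IrrCharacter G, m φ = if φ = ξ then 1 else 0 := by
    intro φ
    rw [← Finset.sum_erase_add _ _ (Finset.mem_univ ξ)] at hsum
    have h2 : e ξ ≤ m ξ * e ξ := Nat.le_mul_of_pos_left _ (Nat.pos_of_ne_zero hξ.1)
    by_cases hφ : φ = ξ
    · subst hφ
      rw [if_pos rfl]
      have h3 : m φ * e φ = e φ := by omega
      exact (Nat.mul_eq_right (he φ).ne').mp h3
    · rw [if_neg hφ]
      have h3 : ∑ x ∈ Finset.univ.erase ξ, m x * e x = 0 := by omega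
      exact (Nat.mul_eq_zero.mp (Finset.sum_eq_zero_iff.mp h3 φ (by simp [hφ]))).resolve_right (he φ).ne'
  rw [hm, Finset.sum_eq_single ξ (fun φ _ hφ => by rw [hm1, if_neg hφ, Nat.cast_zero, zero_smul])
    (fun h => absurd (Finset.mem_univ _) h), hm1, if_pos rfl, Nat.cast_one, one_smul]
  exact ξ.2

/-- `D ≀ᵣ Q` is an M-group for an M-group `D` and `Q` of prime order. -/
theorem isMonomial_wreath (hD : IsMonomial D) (hQ : (Nat.card Q).Prime) : IsMonomial (D ≀ᵣ Q) := by
  classical
  intro χ hχ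
  set B := base D Q
  haveI := Fintype.ofFinite B
  obtain ⟨η, hη⟩ : ∃ η : IrrCharacter B, classInner (fun b : B => χ b) (η : B → ℂ) ≠ 0 := by
    by_contra hh
    push Not at hh
    exact Char.IsIrrCharacter.apply_one_ne_zero hχ (congrFun (Char.eq_zero_of_forall_classInner_irr
      (Char.IsCharacter.isClassFunction
        (Char.IsCharacter.restrict (Char.IsIrrCharacter.isCharacter hχ) B)) hh) 1)
  obtain ⟨ψ, hψ⟩ := exists_pi_eq (Char.IsIrrCharacter.comp_equiv η.2 (baseEquiv (D := D) (Q := Q)))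
  have hη' : ∀ f, (η : B → ℂ) (baseEquiv f) = ∏ x, (ψ x : D → ℂ) (f x) := fun f => congrFun hψ f
  by_cases hinv : ∀ w : D ≀ᵣ Q, CliffordChar.conjFun B w (η : B → ℂ) = η
  · -- the invariant case
    have hconst : ∀ x, ψ x = ψ 1 := by
      intro x
      have h : (fun y => ψ (x * y)) = ψ := by
        refine pi_injective (funext fun f => ?_)
        rw [← hη' f]
        conv_rhs => rw [← hinv (RegularWreathProduct.inl x⁻¹), conjFun_pi ψ _ hη']
        simp
      simpa using congrFun h 1
    obtain ⟨K, lam, hK⟩ := hD _ (ψ 1).2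
    let Λ := wreathHom (Q := Q) lam
    have hres : (fun b : B => indFun (wreathSub Q K) (fun w => (Λ w : ℂ)) (b : D ≀ᵣ Q)) = η := by
      funext b
      obtain ⟨f, rfl⟩ := (baseEquiv (D := D) (Q := Q)).surjective b
      rw [indFun_wreath, hη']
      exact Finset.prod_congr rfl fun x _ => by rw [hconst x, ← hK]
    have hirrB : IsIrrCharacter B (fun b : B => indFun (wreathSub Q K) (fun w => (Λ w : ℂ)) (b : D ≀ᵣ Q)) :=
      hres ▸ η.2
    haveI := Fintype.ofFinite (wreathSub Q K)
    have hirr := isIrr_of_restrict B (Char.IsCharacter.indFun _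
      (Char.isCharacter_of_hom ((Units.coeHom ℂ).comp Λ) : IsCharacter (wreathSub Q K) fun w => (Λ w : ℂ)))
      hirrB
    obtain ⟨β, hβ, hβt, hβe⟩ := CharApp.gallagher_exhaustive B hirr hirrB hχ (hres.symm ▸ hη)
    obtain ⟨β', hβ'⟩ := CentralChar.exists_deflation B ⟨β, hβ⟩ (fun b hb => hβt ⟨b, hb⟩)
    have hcyc : IsCyclic ((D ≀ᵣ Q) ⧸ B) := by
      haveI := Fact.mk hQ
      refine @isCyclic_of_injective _ _ _ _ (isCyclic_of_prime_card (α := Q) rfl)
        (QuotientGroup.kerLift (RegularWreathProduct.rightHom (D := D) (Q := Q))) ?_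
      exact QuotientGroup.kerLift_injective _
    have hβ1 : β 1 = 1 := by
      rw [show β 1 = (β' : _ → ℂ) ((1 : D ≀ᵣ Q) : (D ≀ᵣ Q) ⧸ B) from hβ' 1, QuotientGroup.mk_one]
      exact Char.apply_one_eq_one_of_comm (fun a b =>
        (IsCyclic.commGroup (α := (D ≀ᵣ Q) ⧸ B)).mul_comm a b) β'
    obtain ⟨l, hl⟩ := Char.exists_hom_of_degree_one (Char.IsIrrCharacter.isCharacter hβ) hβ1
    refine ⟨wreathSub Q K, Λ * l.toHomUnits.comp (wreathSub Q K).subtype, ?_⟩
    rw [hβe, ← hl, Char.indFun_mul _ _ (hl.symm ▸ Char.IsIrrCharacter.isClassFunction hβ)]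
    refine congrArg _ (funext fun w => ?_)
    simp
  · -- the induced case
    push Not at hinv
    obtain ⟨w0, hw0⟩ := hinv
    have hT : ∀ w : D ≀ᵣ Q, CliffordChar.conjFun B w (η : B → ℂ) = η → w ∈ B := by
      intro w hw
      by_contra hwB
      apply hw0
      have hgen : w0.right ∈ Subgroup.zpowers w.right := by
        haveI := Fact.mk hQ
        exact mem_zpowers_of_prime_card rfl hwB
      obtain ⟨k, hk⟩ := Subgroup.mem_zpowers_iff.mp hgen
      let S : Subgroup (D ≀ᵣ Q) :=
        { carrier := {x | CliffordChar.conjFun B x (η : B → ℂ) = η}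
          one_mem' := CliffordChar.conjFun_one B _
          mul_mem' := fun {a b} (ha : _ = (η : B → ℂ)) (hb : _ = (η : B → ℂ)) =>
            show CliffordChar.conjFun B (a * b) (η : B → ℂ) = η by
              rw [CliffordChar.conjFun_mul, hb, ha]
          inv_mem' := fun {a} (ha : _ = (η : B → ℂ)) =>
            show CliffordChar.conjFun B a⁻¹ (η : B → ℂ) = η by
              conv_lhs => rw [← ha, ← CliffordChar.conjFun_mul, inv_mul_cancel, CliffordChar.conjFun_one] }
      have hBS : ∀ b ∈ B, b ∈ S := fun b hb => by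
        show CliffordChar.conjFun B b (η : B → ℂ) = η
        funext n
        rw [CliffordChar.conjFun_apply]
        have h1 := Char.IsIrrCharacter.isClassFunction η.2 n (⟨b, hb⟩⁻¹ : B)
        rw [inv_inv] at h1
        rw [← h1]
        rfl
      have h1 : w0 * (w ^ k)⁻¹ ∈ B := by
        show RegularWreathProduct.rightHom (w0 * (w ^ k)⁻¹) = 1
        rw [map_mul, map_inv, map_zpow]
        show w0.right * (w.right ^ k)⁻¹ = 1
        rw [hk, mul_inv_cancel]
      have h2 := S.mul_mem (hBS _ h1) (S.zpow_mem hw k)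
      rwa [inv_mul_cancel_right] at h2
    have hchar := Char.IsCharacter.indFun B (Char.IsIrrCharacter.isCharacter η.2)
    have hirr : IsIrrCharacter (D ≀ᵣ Q) (indFun B (η : B → ℂ)) := by
      rw [Char.isIrrCharacter_iff_norm_one hchar,
        Char.frobenius_reciprocity B _ (Char.indFun_isClassFunction B _),
        show (fun n : B => indFun B (η : B → ℂ) (n : D ≀ᵣ Q)) =
          (Nat.card B : ℂ)⁻¹ • CliffordChar.orbitSum B (η : B → ℂ) from
          funext fun n => CliffordChar.indFun_coe B _ n,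
        Char.classInner_smul_right, ← Char.classInner_conj_symm (CliffordChar.orbitSum B (η : B → ℂ)),
        CliffordChar.classInner_orbitSum B η.2 η.2]
      have e : (Finset.univ.filter fun x : D ≀ᵣ Q => CliffordChar.conjFun B x (η : B → ℂ) = η).card =
          Nat.card B := by
        rw [← Nat.card_eq_finsetCard]
        refine Nat.card_congr (Equiv.subtypeEquivRight fun x => ?_)
        simp only [Finset.mem_filter, Finset.mem_univ, true_and]
        refine ⟨hT x, fun hb => ?_⟩
        funext n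
        rw [CliffordChar.conjFun_apply]
        have h1 := Char.IsIrrCharacter.isClassFunction η.2 n (⟨x, hb⟩⁻¹ : B)
        rw [inv_inv] at h1
        rw [← h1]
        rfl
      rw [e]
      simp only [map_inv₀, Complex.conj_natCast]
      exact inv_mul_cancel₀ (Nat.cast_ne_zero.mpr Nat.card_pos.ne')
    have heq : χ = indFun B (η : B → ℂ) := by
      by_contra hne
      apply hη
      rw [← Char.classInner_conj_symm, ← Char.frobenius_reciprocity B _
        (Char.IsIrrCharacter.isClassFunction hχ), Char.classInner_irr_of_ne hirr hχ (Ne.symm hne),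
        map_zero]
    obtain ⟨L, μ, hL⟩ := (IsMonomial.of_equiv (baseEquiv (D := D) (Q := Q)) (isMonomial_pi hD)) _ η.2
    refine ⟨L.map B.subtype, μ.comp (L.equivMapOfInjective B.subtype B.subtype_injective).symm.toMonoidHom, ?_⟩
    rw [heq, hL, Char.indFun_map_subtype]
    rfl

/-- An extension of `N` by `G ⧸ N` embeds in `M ≀ᵣ (G ⧸ N)` when `N` embeds in `M`. -/
theorem exists_embedding_wreath {G M : Type*} [Group G] [Group M] (N : Subgroup G) [N.Normal]
    (f : N →* M) (hf : Function.Injective f) :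
    ∃ φ : G →* M ≀ᵣ (G ⧸ N), Function.Injective φ := by
  let s : G ⧸ N → G := Quotient.out
  have hs : ∀ q : G ⧸ N, ((s q : G) : G ⧸ N) = q := fun q => Quotient.out_eq q
  have hmem : ∀ (g : G) (x : G ⧸ N), (s x)⁻¹ * g * s ((g : G ⧸ N)⁻¹ * x) ∈ N := fun g x => by
    rw [← QuotientGroup.eq_one_iff, QuotientGroup.mk_mul, QuotientGroup.mk_mul, QuotientGroup.mk_inv,
      hs, hs]
    group
  let φ : G →* M ≀ᵣ (G ⧸ N) := MonoidHom.mk'
    (fun g => ⟨fun x => f ⟨_, hmem g x⟩, (g : G ⧸ N)⟩) fun g h => by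
    refine RegularWreathProduct.ext ?_ rfl
    funext x
    rw [RegularWreathProduct.mul_left, Pi.mul_apply, ← map_mul]
    refine congrArg f (Subtype.ext ?_)
    simp [mul_assoc]
  refine ⟨φ, (injective_iff_map_eq_one φ).mpr fun g hg => ?_⟩
  have h1 : (g : G ⧸ N) = 1 := congrArg RegularWreathProduct.right hg
  have h2 : f ⟨_, hmem g 1⟩ = 1 := congrFun (congrArg RegularWreathProduct.left hg) 1
  have h3 := congrArg Subtype.val ((injective_iff_map_eq_one f).mp hf _ h2)
  simp only [h1, inv_one, one_mul, OneMemClass.coe_one] at h3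
  calc g = s 1 * ((s 1)⁻¹ * g * s 1) * (s 1)⁻¹ := by group
    _ = 1 := by rw [h3]; group

end Wreath

end Cfsg.Agent.MGroup
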